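import Mathlib

/-!
For each normalised vector of squared length 64 outside the standard cross and its neighbours:
a word taking it to the standard cross, and a monomial word such that the double product takes the
standard cross to a neighbour (found by a search outside of Lean, checked in the file using it).
-/

namespace Cfsg.Agent.CrossMax

/-- Certificates for `a64six`. -/
def certSix : List (List ℕ × List ℕ) :=
  [([4250, 0, 90, 3702, 0], [145, 1601])]

/-- Certificates for `a64oct`. -/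
def certOct : List (List ℕ × List ℕ) :=
  [([89, 1334, 0, 155, 4051, 0, 39, 3260, 0], [19, 137, 3726]),
    ([181, 1809, 0, 96, 153, 3360, 0], [164, 2150]),
    ([114, 728, 0, 60, 7, 1548, 0], [26, 334]),
    ([103, 2659, 0, 94, 32, 3328, 0], [182, 2573]),
    ([128, 3853, 0, 129, 148, 3005, 0], [156, 2597]),
    ([38, 3141, 0, 121, 512, 0, 181, 61, 2923, 0], [108, 3540]),
    ([99, 1085, 0, 78, 38, 2188, 0], [181, 4191]),
    ([385, 0, 117, 65, 888, 0], [189, 4056]),
    ([92, 2212, 0, 156, 2451, 0, 47, 4037, 0], [47, 541]),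
    ([4053, 0, 53, 100, 134, 4058, 0], [160, 1208]),
    ([51, 459, 0, 127, 2840, 0, 98, 1, 1796, 0], [177, 2651]),
    ([99, 701, 0, 123, 109, 1884, 0], [107, 3212]),
    ([164, 1150, 0, 91, 1158, 0, 56, 165, 927, 0], [7, 1684]),
    ([152, 2903, 0, 58, 3589, 0, 16, 129, 2094, 0], [110, 804]),
    ([2702, 0, 79, 178, 465, 0], [175, 3455])]

/-- Certificates for `a64dod`. -/
def certDod : List (List ℕ × List ℕ) :=
  [([99, 3661, 0, 40, 3143, 0, 72, 24, 3772, 0], [93, 887]),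
    ([17, 3645, 0, 120, 390, 0, 109, 564, 0, 82, 51, 1206, 0], [138, 817]),
    ([98, 974, 0, 9, 849, 0, 155, 86, 1585, 0], [184, 3631]),
    ([129, 1465, 0, 29, 1083, 0, 110, 3739, 0, 39, 3052, 0], [1, 1172]),
    ([59, 3929, 0, 29, 326, 0, 168, 136, 2276, 0], [173, 241]),
    ([159, 3021, 0, 139, 4234, 0, 34, 2461, 0, 158, 172, 1208, 0], [46, 2409]),
    ([158, 2019, 0, 35, 3520, 0, 121, 3498, 0, 40, 157, 1127, 0], [168, 2363]),
    ([185, 893, 0, 91, 220, 0, 123, 91, 2033, 0, 110, 28, 825, 0], [115, 2039]),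
    ([151, 1886, 0, 119, 2346, 0, 27, 3586, 0, 99, 146, 46, 685, 0], [122, 464]),
    ([92, 3406, 0, 120, 37, 3169, 0, 66, 3259, 0, 155, 7, 1067, 0], [87, 1185]),
    ([13, 1500, 0, 180, 2144, 0, 62, 2795, 0, 184, 17, 211, 0], [156, 3467]),
    ([22, 1102, 0, 57, 3358, 0, 143, 1780, 0, 49, 57, 2338, 0], [176, 922])]

/-- Certificates for `a64sixteen`. -/
def certSixteen : List (List ℕ × List ℕ) :=
  [([121, 3531, 0, 52, 2670, 0, 17, 1485, 0, 91, 3121, 0], [110, 40, 4097]),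
    ([2727, 0, 130, 1067, 0, 44, 567, 0, 60, 6, 2478, 0], [67, 1076]),
    ([1387, 0, 103, 230, 0, 5, 2886, 0, 139, 127, 3426, 0], [165, 995]),
    ([3396, 0, 103, 605, 0, 82, 539, 0, 57, 13, 1976, 0], [89, 1969]),
    ([199, 0, 171, 2807, 0, 127, 4204, 0, 11, 141, 3845, 0], [127, 2259]),
    ([3420, 0, 40, 104, 47, 2994, 0], [68, 1551]),
    ([3739, 0, 142, 1880, 0, 52, 152, 506, 0], [183, 1916]),
    ([3578, 0, 149, 1022, 0, 16, 5, 286, 0], [153, 509]),
    ([1112, 0, 99, 3330, 0, 41, 2826, 0, 166, 2, 2580, 0], [164, 1707]),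
    ([3481, 0, 103, 1640, 0, 82, 3893, 0, 129, 85, 182, 3979, 0], [150, 2117]),
    ([2201, 0, 173, 2589, 0, 127, 2041, 0, 190, 84, 4097, 0], [87, 3820]),
    ([50, 1490, 0, 79, 4125, 0, 19, 1065, 0, 55, 65, 622, 0], [123, 566]),
    ([695, 0, 1, 1993, 0, 126, 1964, 0, 79, 42, 3323, 0], [124, 2019]),
    ([3892, 0, 16, 2890, 0, 151, 1104, 0, 156, 122, 4177, 0], [160, 1599]),
    ([42, 3166, 0, 30, 264, 0, 186, 3573, 0, 41, 92, 2345, 0], [9, 589]),
    ([2816, 0, 185, 2045, 0, 35, 390, 0, 9, 1, 734, 0], [156, 2533])]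

/-- Certificates for `b64five`. -/
def certFive : List (List ℕ × List ℕ) :=
  [([3502, 0, 109, 3692, 0, 113, 19, 1968, 0], [5, 558])]

/-- Certificates for `b64three`. -/
def certThree : List (List ℕ × List ℕ) :=
  [([1960, 0, 32, 3137, 0, 13, 92, 779, 0], [6, 4119])]

end Cfsg.Agent.CrossMax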